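/-
Composition length, defined through descending subnormal series.
-/
import Mathlib

set_option autoImplicit false
set_option linter.unusedVariables false

namespace CfsgLib.CompLength

universe u w

variable {G : Type u} [Group G] {Q : Type w} [Group Q]

/-- `Ser A l`: there is a strict subnormal series of length `l` from the whole group down to `A`. -/
inductive Ser : Subgroup G → ℕ → Prop
  | top : Ser ⊤ 0
  | step {A B : Subgroup G} {l : ℕ} : Ser B l → A < B → (A.subgroupOf B).Normal → Ser A (l + 1)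

open scoped Classical in
theorem Ser.bound [Finite G] {A : Subgroup G} {l : ℕ} (h : Ser A l) :
    (Nat.card A).primeFactorsList.length + l ≤ (Nat.card G).primeFactorsList.length := by
  induction h with
  | top => rw [Subgroup.card_top, add_zero]
  | @step A B l _ hlt _ ih =>
    obtain ⟨k, hk⟩ := Subgroup.card_dvd_of_le hlt.le
    have hk1 : k ≠ 1 := fun e => hlt.ne (Subgroup.eq_of_le_of_card_ge hlt.le (by rw [hk, e, mul_one]))
    have hk0 : k ≠ 0 := fun e => (Nat.card_pos (α := B)).ne' (by rw [hk, e, mul_zero])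
    have hA0 : Nat.card A ≠ 0 := (Nat.card_pos (α := A)).ne'
    have e := (Nat.perm_primeFactorsList_mul hA0 hk0).length_eq
    rw [← hk, List.length_append] at e
    have : 0 < k.primeFactorsList.length := List.length_pos_of_ne_nil
      (fun h => ((Nat.primeFactorsList_eq_nil k).mp h).elim hk0 hk1)
    omega

/-- The composition length. -/
noncomputable def cl (G : Type u) [Group G] : ℕ := sSup {l | ∃ A : Subgroup G, Ser A l}

theorem bddAbove [Finite G] : BddAbove {l | ∃ A : Subgroup G, Ser A l} :=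
  ⟨(Nat.card G).primeFactorsList.length, fun l ⟨A, h⟩ => (Nat.le_add_left _ _).trans h.bound⟩

theorem le_cl [Finite G] {A : Subgroup G} {l : ℕ} (h : Ser A l) : l ≤ cl G :=
  le_csSup bddAbove ⟨A, h⟩

theorem cl_le {b : ℕ} (h : ∀ (A : Subgroup G) (l : ℕ), Ser A l → l ≤ b) : cl G ≤ b :=
  csSup_le ⟨0, ⊤, Ser.top⟩ fun l ⟨A, hA⟩ => h A l hA

theorem cl_le_omega [Finite G] : cl G ≤ (Nat.card G).primeFactorsList.length :=
  cl_le fun A l h => (Nat.le_add_left _ _).trans h.bound

theorem cl_le_log [Finite G] : cl G ≤ Nat.log 2 (Nat.card G) := by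
  refine cl_le_omega.trans (Nat.le_log_of_pow_le one_lt_two ?_)
  conv_rhs => rw [← Nat.prod_primeFactorsList (Nat.card_pos (α := G)).ne']
  exact List.pow_card_le_prod _ 2 fun p hp => (Nat.prime_of_mem_primeFactorsList hp).two_le

theorem exists_max (G : Type u) [Group G] [Finite G] : Ser (⊥ : Subgroup G) (cl G) := by
  obtain ⟨A, hA⟩ : cl G ∈ {l | ∃ A : Subgroup G, Ser A l} := Nat.sSup_mem ⟨0, ⊤, Ser.top⟩ bddAbove
  by_cases h : A = ⊥
  · rwa [h] at hA
  · have := le_cl (Ser.step hA (bot_lt_iff_ne_bot.mpr h) (by rw [Subgroup.bot_subgroupOf]; infer_instance))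
    omega

theorem one_le_cl [Finite G] [Nontrivial G] : 1 ≤ cl G :=
  le_cl (Ser.step Ser.top (bot_lt_top : (⊥ : Subgroup G) < ⊤) (by rw [Subgroup.bot_subgroupOf]; infer_instance))

theorem cl_le_one_of_simple [IsSimpleGroup G] : cl G ≤ 1 := by
  have key : ∀ (A : Subgroup G) (l : ℕ), Ser A l → (l = 0 ∧ A = ⊤) ∨ (l = 1 ∧ A = ⊥) := by
    intro A l h
    induction h with
    | top => exact Or.inl ⟨rfl, rfl⟩
    | @step A B l _ hlt hn ih =>
      rcases ih with ⟨rfl, rfl⟩ | ⟨rfl, rfl⟩
      · refine Or.inr ⟨rfl, ?_⟩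
        have hA : A.Normal := ⟨fun a ha g => hn.conj_mem ⟨a, Subgroup.mem_top a⟩ ha ⟨g, Subgroup.mem_top g⟩⟩
        exact hA.eq_bot_or_eq_top.resolve_right hlt.ne
      · exact absurd hlt not_lt_bot
  exact cl_le fun A l h => by rcases key A l h with ⟨rfl, -⟩ | ⟨rfl, -⟩ <;> omega

theorem Ser.comap {f : G →* Q} (hf : Function.Surjective f) {A : Subgroup Q} {l : ℕ} (h : Ser A l) :
    Ser (A.comap f) l := by
  induction h with
  | top => rw [Subgroup.comap_top]; exact Ser.top
  | @step A B l _ hlt hn ih =>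
    refine Ser.step ih ?_ ⟨fun a ha g => ?_⟩
    · exact lt_of_le_of_ne (Subgroup.comap_mono hlt.le) fun e => hlt.ne (Subgroup.comap_injective hf e)
    · show f ((g : G) * (a : G) * (g : G)⁻¹) ∈ A
      rw [map_mul, map_mul, map_inv]
      exact hn.conj_mem ⟨f a, a.2⟩ ha ⟨f g, g.2⟩

theorem Ser.append {N : Subgroup G} {a : ℕ} (h : Ser N a) {A : Subgroup N} {b : ℕ} (hA : Ser A b) :
    Ser (A.map N.subtype) (a + b) := by
  induction hA with
  | top => rwa [← MonoidHom.range_eq_map, Subgroup.range_subtype]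
  | @step A B l _ hlt hn ih =>
    refine Ser.step ih (Subgroup.map_lt_map_iff_of_injective N.subtype_injective |>.mpr hlt) ⟨?_⟩
    rintro ⟨x, hx⟩ hxA ⟨g, hg⟩
    obtain ⟨x', hx', rfl⟩ : x ∈ A.map N.subtype := hxA
    obtain ⟨g', hg', rfl⟩ := hg
    exact ⟨g' * x' * g'⁻¹, hn.conj_mem ⟨x', hlt.le hx'⟩ hx' ⟨g', hg'⟩, by simp⟩

theorem cl_ker_add_le [Finite G] (f : G →* Q) (hf : Function.Surjective f) :
    cl f.ker + cl Q ≤ cl G := by
  have : Finite Q := Finite.of_surjective f hf
  have h := (exists_max Q).comap hf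
  rw [MonoidHom.comap_bot] at h
  have := le_cl (h.append (exists_max f.ker))
  omega

theorem cl_le_ker_add [Finite G] (f : G →* Q) (hf : Function.Surjective f) :
    cl G ≤ cl f.ker + cl Q := by
  have : Finite Q := Finite.of_surjective f hf
  have key : ∀ (A : Subgroup G) (l : ℕ), Ser A l → ∃ a b, Ser (A.map f) a ∧
      Ser (A.subgroupOf f.ker) b ∧ l ≤ a + b := by
    intro A l h
    induction h with
    | top =>
      exact ⟨0, 0, by rw [Subgroup.map_top_of_surjective f hf]; exact Ser.top,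
        by rw [Subgroup.top_subgroupOf]; exact Ser.top, le_rfl⟩
    | @step A B l _ hlt hn ih =>
      obtain ⟨a, b, ha, hb, hl⟩ := ih
      have h1 : (A.map f).subgroupOf (B.map f) |>.Normal := ⟨by
        rintro ⟨x, hx⟩ hxA ⟨g, hg⟩
        obtain ⟨x', hx', rfl⟩ : x ∈ A.map f := hxA
        obtain ⟨g', hg', rfl⟩ := hg
        exact ⟨g' * x' * g'⁻¹, hn.conj_mem ⟨x', hlt.le hx'⟩ hx' ⟨g', hg'⟩, by simp⟩⟩
      have h2 : ((A.subgroupOf f.ker).subgroupOf (B.subgroupOf f.ker)).Normal :=
        ⟨fun x hx g => hn.conj_mem ⟨x.1.1, x.2⟩ hx ⟨g.1.1, g.2⟩⟩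
      by_cases e1 : A.map f = B.map f
      · by_cases e2 : A.subgroupOf f.ker = B.subgroupOf f.ker
        · exfalso
          refine hlt.not_ge fun x hx => ?_
          obtain ⟨y, hy, hyx⟩ : f x ∈ A.map f := e1 ▸ Subgroup.mem_map_of_mem f hx
          have hk : y⁻¹ * x ∈ f.ker := by rw [MonoidHom.mem_ker, map_mul, map_inv, hyx, inv_mul_cancel]
          have : (⟨_, hk⟩ : f.ker) ∈ A.subgroupOf f.ker :=
            e2 ▸ (B.mul_mem (B.inv_mem (hlt.le hy)) hx : (⟨_, hk⟩ : f.ker) ∈ B.subgroupOf f.ker)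
          simpa using A.mul_mem hy this
        · exact ⟨a, b + 1, by rwa [e1], Ser.step hb
            (lt_of_le_of_ne (fun x hx => hlt.le hx) e2) h2, by omega⟩
      · have ha' := Ser.step ha (lt_of_le_of_ne (Subgroup.map_mono hlt.le) e1) h1
        by_cases e2 : A.subgroupOf f.ker = B.subgroupOf f.ker
        · exact ⟨a + 1, b, ha', by rwa [e2], by omega⟩
        · exact ⟨a + 1, b + 1, ha', Ser.step hb (lt_of_le_of_ne (fun x hx => hlt.le hx) e2) h2, by omega⟩
  refine cl_le fun A l h => ?_
  obtain ⟨a, b, ha, hb, hl⟩ := key A l h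
  have := le_cl ha; have := le_cl hb
  omega

theorem cl_le_of_injective [Finite G] [Finite Q] {f : G →* Q} (hi : Function.Injective f)
    (hf : Function.Surjective f) : cl G ≤ cl Q := by
  have := cl_le_ker_add f hf
  have h0 : cl f.ker = 0 := by
    refine Nat.le_zero.mp (cl_le_omega.trans ?_)
    rw [(MonoidHom.ker_eq_bot_iff f).mpr hi, Subgroup.card_bot, Nat.primeFactorsList_one]
    simp
  omega

theorem cl_congr [Finite G] (e : G ≃* Q) : cl G = cl Q := by
  have : Finite Q := Finite.of_equiv G e.toEquiv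
  exact le_antisymm (cl_le_of_injective (f := e.toMonoidHom) e.injective e.surjective)
    (cl_le_of_injective (f := e.symm.toMonoidHom) e.symm.injective e.symm.surjective)

theorem cl_subgroup_congr [Finite G] {A B : Subgroup G} (h : A = B) : cl A = cl B := by subst h; rfl

/-- A series with endpoints as in the usual formulation has length at most the composition length. -/
theorem length_le [Finite G] (l : ℕ) (H : Fin (l + 1) → Subgroup G) (hl : H (Fin.last l) = ⊤)
    (hchain : ∀ i : Fin l, H i.castSucc < H i.succ ∧ ((H i.castSucc).subgroupOf (H i.succ)).Normal) :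
    l ≤ cl G := by
  have key : ∀ (k : ℕ) (hk : k ≤ l), Ser (H ⟨l - k, by omega⟩) k := by
    intro k
    induction k with
    | zero => intro _; convert Ser.top (G := G); exact hl
    | succ k ih =>
      intro hk
      have h := hchain ⟨l - (k + 1), by omega⟩
      have e1 : (⟨l - (k + 1), by omega⟩ : Fin l).succ = (⟨l - k, by omega⟩ : Fin (l + 1)) :=
        Fin.ext (by show l - (k + 1) + 1 = l - k; omega)
      rw [e1] at h
      exact Ser.step (ih (by omega)) h.1 h.2
  exact le_cl (key l le_rfl)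

end CfsgLib.CompLength
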