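/-
Composition length inside a product of simple factors, and supports of elements.
-/
import Cfsg.Agent.Lib.CompLength.Basic
import Cfsg.Agent.Lib.Perm.Socle

set_option autoImplicit false
set_option linter.unusedVariables false
set_option linter.unusedSectionVars false

namespace CfsgLib.CompLength

universe u

open CfsgLib.Socle

variable {G : Type u} [Group G] {N : Subgroup G} (D : Data N)

theorem eq_one_of_proj {x : G} (hx : x ∈ N) (h : ∀ T ∈ D.s, Data.proj T x = 1) : x = 1 := by
  refine D.centerN x hx fun y hy => ?_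
  have hle : N ≤ Subgroup.centralizer {x} := D.le_of_forall fun T hT z hz => by
    rw [Subgroup.mem_centralizer_singleton_iff]
    have := D.proj_spec hT hx z hz
    rw [h T hT, one_mul, inv_one, mul_one, mul_inv_eq_iff_eq_mul] at this
    exact this.symm
  exact (Subgroup.mem_centralizer_singleton_iff.mp (hle hy)).symm

theorem proj_ext {x y : G} (hx : x ∈ N) (hy : y ∈ N)
    (h : ∀ T ∈ D.s, Data.proj T x = Data.proj T y) : x = y := by
  refine inv_mul_eq_one.mp (eq_one_of_proj D (N.mul_mem (N.inv_mem hx) hy) fun T hT => ?_)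
  rw [D.proj_mul hT (N.inv_mem hx) hy, D.proj_inv hT hx, h T hT, inv_mul_cancel]

/-- The elements with trivial projections outside `S`. -/
noncomputable def U (D : Data N) (S : Finset (Subgroup G)) : Subgroup G where
  carrier := {x | x ∈ N ∧ ∀ T ∈ D.s, T ∉ S → Data.proj T x = 1}
  one_mem' := ⟨N.one_mem, fun T hT _ => D.proj_one hT⟩
  mul_mem' := fun {a b} ha hb => ⟨N.mul_mem ha.1 hb.1, fun T hT hS => by
    rw [D.proj_mul hT ha.1 hb.1, ha.2 T hT hS, hb.2 T hT hS, one_mul]⟩
  inv_mem' := fun {a} ha => ⟨N.inv_mem ha.1, fun T hT hS => by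
    rw [D.proj_inv hT ha.1, ha.2 T hT hS, inv_one]⟩

theorem mem_U {S : Finset (Subgroup G)} {x : G} :
    x ∈ U D S ↔ x ∈ N ∧ ∀ T ∈ D.s, T ∉ S → Data.proj T x = 1 := Iff.rfl

/-- The projection as a homomorphism. -/
noncomputable def projHom {T : Subgroup G} (hT : T ∈ D.s) {A : Subgroup G} (hA : A ≤ N) : A →* T where
  toFun x := ⟨Data.proj T (x : G), Data.proj_mem T _⟩
  map_one' := Subtype.ext (D.proj_one hT)
  map_mul' x y := Subtype.ext (D.proj_mul hT (hA x.2) (hA y.2))

theorem exists_coord (f : Subgroup G → G) : ∀ S : Finset (Subgroup G), S ⊆ D.s → (∀ T ∈ S, f T ∈ T) →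
    ∃ x ∈ N, (∀ T ∈ S, Data.proj T x = f T) ∧ ∀ T ∈ D.s, T ∉ S → Data.proj T x = 1 := by
  classical
  intro S
  induction S using Finset.induction with
  | empty => intro _ _; exact ⟨1, N.one_mem, by simp, fun T hT _ => D.proj_one hT⟩
  | @insert T₀ S hT₀ ih =>
    intro hS hf
    obtain ⟨hT₀s, hS'⟩ := Finset.insert_subset_iff.mp hS
    obtain ⟨x, hx, h1, h2⟩ := ih hS' fun T hT => hf T (Finset.mem_insert_of_mem hT)
    have hfT := hf T₀ (Finset.mem_insert_self _ _)
    refine ⟨f T₀ * x, N.mul_mem (D.le _ hT₀s hfT) hx, fun T hT => ?_, fun T hT hTS => ?_⟩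
    · rcases Finset.mem_insert.mp hT with rfl | hT'
      · rw [D.proj_mul hT₀s (D.le _ hT₀s hfT) hx, D.proj_of_mem hT₀s hfT, h2 T hT₀s hT₀, mul_one]
      · rw [D.proj_mul (hS' hT') (D.le _ hT₀s hfT) hx,
          D.proj_of_other (hS' hT') hT₀s (fun e => hT₀ (e ▸ hT')) hfT, one_mul, h1 T hT']
    · rw [Finset.mem_insert, not_or] at hTS
      rw [D.proj_mul hT (D.le _ hT₀s hfT) hx, D.proj_of_other hT hT₀s (Ne.symm hTS.1) hfT, one_mul,
        h2 T hT hTS.2]

theorem cl_U_le [Finite G] : ∀ S : Finset (Subgroup G), S ⊆ D.s → cl (U D S) ≤ S.card := by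
  classical
  intro S
  induction S using Finset.induction with
  | empty =>
    intro _
    have : U D ∅ = ⊥ := (Subgroup.eq_bot_iff_forall _).mpr fun x hx =>
      eq_one_of_proj D hx.1 fun T hT => hx.2 T hT (Finset.notMem_empty T)
    refine cl_le_omega.trans ?_
    rw [this, Subgroup.card_bot, Nat.primeFactorsList_one]
    simp
  | @insert T₀ S hT₀ ih =>
    intro hS
    obtain ⟨hT₀s, hS'⟩ := Finset.insert_subset_iff.mp hS
    let f := projHom D hT₀s (fun x (hx : x ∈ U D (insert T₀ S)) => hx.1)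
    have hf : Function.Surjective f := fun t => by
      refine ⟨⟨t, D.le _ hT₀s t.2, fun T hT hTS => ?_⟩, Subtype.ext (D.proj_of_mem hT₀s t.2)⟩
      rw [Finset.mem_insert, not_or] at hTS
      exact D.proj_of_other hT hT₀s (Ne.symm hTS.1) t.2
    have hk : f.ker.map (U D (insert T₀ S)).subtype = U D S := by
      ext x
      constructor
      · rintro ⟨y, hy, rfl⟩
        refine ⟨y.2.1, fun T hT hTS => ?_⟩
        by_cases e : T = T₀
        · subst e; exact congrArg Subtype.val (MonoidHom.mem_ker.mp hy)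
        · exact y.2.2 T hT (by simp [e, hTS])
      · intro hx
        have hx' : x ∈ U D (insert T₀ S) :=
          ⟨hx.1, fun T hT hTS => hx.2 T hT fun h => hTS (Finset.mem_insert_of_mem h)⟩
        exact ⟨⟨x, hx'⟩, MonoidHom.mem_ker.mpr (Subtype.ext (hx.2 T₀ hT₀s hT₀)), rfl⟩
    have hk' : cl f.ker = cl (U D S) := by
      rw [cl_congr (Subgroup.equivMapOfInjective f.ker _ (U D (insert T₀ S)).subtype_injective),
        cl_subgroup_congr hk]
    have := D.simple T₀ hT₀s
    have h1 := cl_le_one_of_simple (G := T₀)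
    have h2 := cl_le_ker_add f hf
    have h3 := ih hS'
    rw [Finset.card_insert_of_notMem hT₀]
    omega

theorem cl_N_le [Finite G] : cl N ≤ D.s.card := by
  have h : U D D.s = N := le_antisymm (fun x hx => hx.1) fun x hx => ⟨hx, fun T hT hTs => absurd hT hTs⟩
  rw [← cl_subgroup_congr h]
  exact cl_U_le D D.s le_rfl

theorem card_le_cl [Finite G] : ∀ (R : Finset (Subgroup G)) (A : Subgroup G), R ⊆ D.s → A ≤ N →
    (∀ r ∈ R, ∃ h ∈ A, Data.proj r h ≠ 1 ∧ ∀ r' ∈ R, r' ≠ r → Data.proj r' h = 1) →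
    R.card ≤ cl A := by
  classical
  intro R
  induction R using Finset.induction with
  | empty => intro A _ _ _; simp
  | @insert r R hr ih =>
    intro A hR hA hh
    obtain ⟨hrs, hR'⟩ := Finset.insert_subset_iff.mp hR
    let f := projHom D hrs hA
    obtain ⟨h, hhA, hne, -⟩ := hh r (Finset.mem_insert_self _ _)
    have : Nontrivial f.range := ⟨⟨⟨f ⟨h, hhA⟩, ⟨h, hhA⟩, rfl⟩, 1, fun e =>
      hne (congrArg (fun t : f.range => ((t : r) : G)) e)⟩⟩
    have h1 := one_le_cl (G := f.range)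
    have h2 := cl_ker_add_le f.rangeRestrict f.rangeRestrict_surjective
    rw [cl_subgroup_congr f.ker_rangeRestrict,
      cl_congr (Subgroup.equivMapOfInjective f.ker _ A.subtype_injective)] at h2
    have h3 := ih (f.ker.map A.subtype) hR' ((Subgroup.map_subtype_le _).trans hA) fun r' hr' => by
      obtain ⟨g, hgA, hg1, hg2⟩ := hh r' (Finset.mem_insert_of_mem hr')
      refine ⟨g, ⟨⟨g, hgA⟩, MonoidHom.mem_ker.mpr (Subtype.ext ?_), rfl⟩, hg1,
        fun r'' hr'' hne' => hg2 r'' (Finset.mem_insert_of_mem hr'') hne'⟩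
      exact hg2 r (Finset.mem_insert_self _ _) fun e => hr (e ▸ hr')
    rw [Finset.card_insert_of_notMem hr]
    omega

end CfsgLib.CompLength
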