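/-
Composition length and orbits: the reductions to primitive groups.
-/
import Cfsg.Agent.Lib.CompLength.Basic

set_option autoImplicit false
set_option linter.unusedVariables false
set_option linter.unusedSectionVars false

namespace CfsgLib.CompLength

open scoped Pointwise

universe u v

/-- The number of orbits. -/
noncomputable def norb (G : Type u) [Group G] (X : Type v) [MulAction G X] : ℕ :=
  Nat.card (MulAction.orbitRel.Quotient G X)

/-- The bound for all permutation groups of degree `n`. -/
def Bound (n : ℕ) : Prop :=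
  ∀ (X : Type v) [Finite X] (G : Subgroup (Equiv.Perm X)), Nat.card X = n → 3 * cl G + 4 * norb G X ≤ 4 * n

variable {G : Type u} [Group G] [Finite G] {X : Type v} [MulAction G X] [FaithfulSMul G X] [Finite X]

theorem bound_action (h : Bound.{v} (Nat.card X)) : 3 * cl G + 4 * norb G X ≤ 4 * Nat.card X := by
  have hinj : Function.Injective (MulAction.toPermHom G X) := MulAction.toPerm_injective
  let e : G ≃* (MulAction.toPermHom G X).range := MonoidHom.ofInjective hinj
  have hb := h X (MulAction.toPermHom G X).range rfl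
  rw [← cl_congr e] at hb
  have hn : norb G X = norb (MulAction.toPermHom G X).range X := by
    refine Nat.card_congr (Quotient.congrRight fun x y => ?_)
    rw [MulAction.orbitRel_apply, MulAction.orbitRel_apply]
    constructor
    · rintro ⟨g, rfl⟩; exact ⟨e g, rfl⟩
    · rintro ⟨g, rfl⟩
      obtain ⟨g', rfl⟩ := e.surjective g
      exact ⟨g', rfl⟩
  rwa [← hn] at hb

theorem norb_pos [Nonempty X] : 1 ≤ norb G X := by
  have : Nonempty (MulAction.orbitRel.Quotient G X) := ⟨Quotient.mk'' (Classical.arbitrary X)⟩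
  exact Nat.card_pos

theorem norb_transitive [Nonempty X] [MulAction.IsPretransitive G X] : norb G X = 1 := by
  refine Nat.card_eq_one_iff_unique.mpr ⟨⟨fun p q => ?_⟩, ⟨Quotient.mk'' (Classical.arbitrary X)⟩⟩
  induction p using Quotient.inductionOn'
  induction q using Quotient.inductionOn'
  exact Quotient.sound' (MulAction.exists_smul_eq G _ _)

/-- The action on an invariant subset. -/
theorem bound_of_two_parts (ih : ∀ m < Nat.card X, Bound.{v} m) (a : X)
    (ha : MulAction.orbit G a ≠ Set.univ) : 3 * cl G + 4 * norb G X ≤ 4 * Nat.card X := by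
  classical
  set O := MulAction.orbit G a with hO
  set f := MulAction.toPermHom G O with hf
  let C : SubMulAction f.ker X :=
    { carrier := Oᶜ
      smul_mem' := fun k x hx hk => hx (by
        have := MulAction.smul_orbit (G := G) (k : G)⁻¹ a
        rw [← hO] at this
        rw [← this]
        exact ⟨_, hk, inv_smul_smul (k : G) x⟩) }
  have hfix : ∀ (k : f.ker), ∀ x ∈ O, (k : G) • x = x := fun k x hx => by
    have := congrArg (fun e : Equiv.Perm O => ((e ⟨x, hx⟩ : O) : X)) (MonoidHom.mem_ker.mp k.2)
    simp [f] at this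
    exact this
  have : FaithfulSMul f.ker C := ⟨fun {k l} h => Subtype.ext (eq_of_smul_eq_smul fun x => by
    by_cases hx : x ∈ O
    · rw [hfix k x hx, hfix l x hx]
    · exact congrArg Subtype.val (h ⟨x, hx⟩))⟩
  have hcard : Nat.card O + Nat.card C = Nat.card X := by
    rw [← Nat.card_congr (Equiv.Set.sumCompl O), Nat.card_sum]
    rfl
  have hO0 : 0 < Nat.card O := Nat.card_pos_iff.mpr ⟨⟨⟨a, MulAction.mem_orbit_self a⟩⟩, inferInstance⟩
  obtain ⟨b, hb⟩ := (Set.ne_univ_iff_exists_notMem O).mp ha
  have hC0 : 0 < Nat.card C := Nat.card_pos_iff.mpr ⟨⟨⟨b, hb⟩⟩, inferInstance⟩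
  have h1 := ih (Nat.card O) (by omega) O f.range rfl
  have h2 := bound_action (G := f.ker) (X := C) (ih _ (by omega))
  have hcl : cl G ≤ cl f.ker + cl f.range := by
    have := cl_le_ker_add f.rangeRestrict f.rangeRestrict_surjective
    rwa [cl_subgroup_congr f.ker_rangeRestrict] at this
  have : Nonempty O := ⟨⟨a, MulAction.mem_orbit_self a⟩⟩
  have hr := norb_pos (G := f.range) (X := O)
  have horb : norb G X ≤ norb f.ker C + 1 := by
    let φ : Option (MulAction.orbitRel.Quotient f.ker C) → MulAction.orbitRel.Quotient G X := fun o =>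
      o.elim (Quotient.mk'' a) (Quotient.map' (fun x : C => (x : X)) fun x y hxy => by
        obtain ⟨k, rfl⟩ := hxy
        exact ⟨(k : G), rfl⟩)
    have : Function.Surjective φ := by
      intro q
      induction q using Quotient.inductionOn' with
      | h x =>
        by_cases hx : x ∈ O
        · exact ⟨none, Quotient.sound' (by
            obtain ⟨g, rfl⟩ := hx
            exact ⟨g⁻¹, inv_smul_smul g a⟩)⟩
        · exact ⟨some (Quotient.mk'' ⟨x, hx⟩), rfl⟩
    exact (Nat.card_le_card_of_surjective φ this).trans_eq Finite.card_option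
  omega

theorem bound_of_intransitive (ih : ∀ m < Nat.card X, Bound.{v} m) (h : 2 ≤ norb G X) :
    3 * cl G + 4 * norb G X ≤ 4 * Nat.card X := by
  obtain ⟨q⟩ : Nonempty (MulAction.orbitRel.Quotient G X) := by
    by_contra hn
    rw [not_nonempty_iff] at hn
    simp [norb] at h
  induction q using Quotient.inductionOn' with
  | h a =>
    refine bound_of_two_parts ih a fun he => ?_
    have : MulAction.IsPretransitive G X := ⟨fun x y => by
      obtain ⟨g, rfl⟩ : x ∈ MulAction.orbit G a := he ▸ Set.mem_univ x
      obtain ⟨k, rfl⟩ : y ∈ MulAction.orbit G a := he ▸ Set.mem_univ y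
      exact ⟨k * g⁻¹, by rw [mul_smul, inv_smul_smul]⟩⟩
    have : Nonempty X := ⟨a⟩
    have := norb_transitive (G := G) (X := X)
    omega

theorem bound_of_imprimitive (ih : ∀ m < Nat.card X, Bound.{v} m) [MulAction.IsPretransitive G X]
    (B : Set X) (hB : MulAction.IsBlock G B) (hB1 : ¬ B.Subsingleton) (hB2 : B ≠ Set.univ) :
    3 * cl G + 4 ≤ 4 * Nat.card X := by
  classical
  set Y := MulAction.orbit G B with hY
  obtain ⟨a, ha⟩ : B.Nonempty := Set.nonempty_iff_ne_empty.mpr fun e => hB1 (e ▸ Set.subsingleton_empty)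
  have hmul : B.ncard * Nat.card Y = Nat.card X := by
    rw [Nat.card_coe_set_eq]
    exact hB.ncard_block_mul_ncard_orbit_eq ⟨a, ha⟩
  have hBc : 1 < B.ncard := (Set.one_lt_ncard_iff_nontrivial).mpr (Set.not_subsingleton_iff.mp hB1)
  have hX0 : 0 < Nat.card X := Nat.card_pos_iff.mpr ⟨⟨a⟩, inferInstance⟩
  have hY1 : Nat.card Y < Nat.card X := by
    rcases Nat.eq_zero_or_pos (Nat.card Y) with e | e
    · omega
    · calc Nat.card Y = 1 * Nat.card Y := (one_mul _).symm
        _ < B.ncard * Nat.card Y := Nat.mul_lt_mul_of_pos_right hBc e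
        _ = Nat.card X := hmul
  set f := MulAction.toPermHom G Y with hf
  have h1 := ih _ hY1 Y f.range rfl
  have : Nonempty Y := ⟨⟨B, MulAction.mem_orbit_self B⟩⟩
  have hr := norb_pos (G := f.range) (X := Y)
  have hcl : cl G ≤ cl f.ker + cl f.range := by
    have := cl_le_ker_add f.rangeRestrict f.rangeRestrict_surjective
    rwa [cl_subgroup_congr f.ker_rangeRestrict] at this
  have hcover : ∀ x : X, ∃ p : Y, x ∈ (p : Set X) := fun x => by
    obtain ⟨g, rfl⟩ := MulAction.exists_smul_eq G a x
    exact ⟨⟨g • B, g, rfl⟩, Set.smul_mem_smul_set ha⟩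
  have huniq : ∀ (x : X) (p q : Y), x ∈ (p : Set X) → x ∈ (q : Set X) → p = q := by
    rintro x ⟨_, g, rfl⟩ ⟨_, k, rfl⟩ hp hq
    exact Subtype.ext (hB.smul_eq_smul_of_nonempty ⟨x, hp, hq⟩)
  choose blk hblk using hcover
  have hfix : ∀ (k : f.ker) (p : Y), (k : G) • (p : Set X) = p := fun k p => by
    have := congrArg (fun e : Equiv.Perm Y => ((e p : Y) : Set X)) (MonoidHom.mem_ker.mp k.2)
    simp [f] at this
    exact this
  let φ : MulAction.orbitRel.Quotient f.ker X → Y := Quotient.lift blk fun x y hxy => by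
    obtain ⟨k, rfl⟩ := hxy
    refine (huniq _ _ _ (hblk _) ?_)
    show (k : G) • y ∈ _
    rw [← hfix k (blk y)]
    exact Set.smul_mem_smul_set (hblk y)
  have hφ : Function.Surjective φ := by
    rintro ⟨p, g, rfl⟩
    exact ⟨Quotient.mk'' (g • a), huniq _ _ _ (hblk _) (Set.smul_mem_smul_set ha)⟩
  have hm : Nat.card Y ≤ norb f.ker X := Nat.card_le_card_of_surjective φ hφ
  have hY2 : 2 ≤ Nat.card Y := by
    by_contra hlt
    have hY0 : 0 < Nat.card Y := Nat.card_pos
    have he : Nat.card Y = 1 := by omega
    rw [he, mul_one] at hmul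
    exact hB2 (Set.eq_univ_of_forall fun x => by
      by_contra hx
      have : B.ncard < (Set.univ : Set X).ncard := Set.ncard_lt_ncard ⟨Set.subset_univ B, fun h => hx (h (Set.mem_univ x))⟩
      rw [Set.ncard_univ] at this
      omega)
  have h2 := bound_of_intransitive (G := f.ker) ih (by omega)
  omega

/-- The stabiliser of a point acting on the other points. -/
theorem bound_stabilizer (a : X) (ih : ∀ m < Nat.card X, Bound.{v} m) :
    3 * cl (MulAction.stabilizer G a) + 4 * norb (MulAction.stabilizer G a) (SubMulAction.ofStabilizer G a) + 4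
      ≤ 4 * Nat.card X := by
  have : FaithfulSMul (MulAction.stabilizer G a) (SubMulAction.ofStabilizer G a) :=
    ⟨fun {k l} h => Subtype.ext (eq_of_smul_eq_smul fun x => by
      by_cases hx : x = a
      · subst hx; rw [MulAction.mem_stabilizer_iff.mp k.2, MulAction.mem_stabilizer_iff.mp l.2]
      · exact congrArg Subtype.val (h ⟨x, hx⟩))⟩
  have hcard : Nat.card (SubMulAction.ofStabilizer G a) + 1 = Nat.card X := by
    classical
    rw [← Finite.card_option]
    exact Nat.card_congr (Equiv.optionSubtypeNe a)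
  have := bound_action (G := MulAction.stabilizer G a) (X := SubMulAction.ofStabilizer G a) (ih _ (by omega))
  omega

end CfsgLib.CompLength
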