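/-
Composition length of primitive groups in terms of their degree.
-/
import Cfsg.Agent.Lib.CompLength.Perm
import Cfsg.Agent.Lib.CompLength.Factors
import Cfsg.Agent.Lib.Perm.SocleApps

set_option autoImplicit false
set_option linter.unusedVariables false
set_option linter.unusedSectionVars false
set_option maxHeartbeats 400000

namespace CfsgLib.CompLength

universe u v

open CfsgLib.Socle

/-! ### The affine case -/

theorem arith_affine {p d : ℕ} (hp : 2 ≤ p) (hd : 1 ≤ d) :
    3 * (d + d * Nat.log 2 (p ^ d - 1)) + 4 ≤ 4 * p ^ d := by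
  have hn : 2 ^ d ≤ p ^ d := Nat.pow_le_pow_left hp d
  have h2 : 2 ≤ p ^ d := le_trans (by simpa using Nat.pow_le_pow_right (show 0 < 2 by norm_num) hd) hn
  set L := Nat.log 2 (p ^ d - 1) with hL
  have hlo : 2 ^ L ≤ p ^ d - 1 := Nat.pow_log_le_self 2 (by omega)
  have hhi : p ^ d - 1 < 2 ^ (L + 1) := Nat.lt_pow_succ_log_self one_lt_two _
  have hdL : d ≤ L + 1 := (Nat.pow_le_pow_iff_right one_lt_two).mp (by omega)
  rcases Nat.lt_or_ge L 5 with hL5 | hL5
  · have hp32 : p ^ d ≤ 32 := by
      have : 2 ^ (L + 1) ≤ 2 ^ 5 := Nat.pow_le_pow_right (by norm_num) (by omega)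
      omega
    have hd5 : d ≤ 5 := by
      by_contra hd'
      have : 2 ^ 6 ≤ 2 ^ d := Nat.pow_le_pow_right (by norm_num) (by omega)
      omega
    have hp5 : 2 ≤ d → p ≤ 5 := by
      intro h2d
      by_contra hp'
      have h := Nat.pow_le_pow_right (show 0 < p by omega) h2d
      have h' := Nat.pow_le_pow_left (show 6 ≤ p by omega) 2
      norm_num at h'
      omega
    interval_cases d
    · rw [pow_one] at *
      interval_cases L <;> omega
    all_goals
      have hp6 : p ≤ 5 := hp5 (by norm_num)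
      interval_cases p <;> first | omega | (simp only [hL]; norm_num) | norm_num [hL] at hp32
  · have key : ∀ m, 5 ≤ m → 3 * ((m + 1) + (m + 1) * m) + 4 ≤ 4 * (2 ^ m + 1) := by
      intro m hm
      induction m, hm using Nat.le_induction with
      | base => norm_num
      | succ m hm ih =>
        have : 3 * m ^ 2 ≥ 15 * m := by nlinarith
        rw [pow_succ]
        nlinarith
    have := key L hL5
    have : d * L ≤ (L + 1) * L := Nat.mul_le_mul_right L hdL
    omega

theorem exists_generators {N : Type u} [Group N] [Finite N] {p : ℕ} (hp : p.Prime) {d : ℕ}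
    (hN : Nat.card N = p ^ d) : ∃ l : List N, l.length ≤ d ∧ Subgroup.closure {x | x ∈ l} = ⊤ := by
  classical
  have key : ∀ k, ∃ l : List N, l.length ≤ k ∧
      (Subgroup.closure {x | x ∈ l} = ⊤ ∨ p ^ k ∣ Nat.card (Subgroup.closure {x | x ∈ l})) := by
    intro k
    induction k with
    | zero => exact ⟨[], le_rfl, Or.inr (by simp)⟩
    | succ k ih =>
      obtain ⟨l, hl, h | h⟩ := ih
      · exact ⟨l, by omega, Or.inl h⟩
      by_cases htop : Subgroup.closure {x | x ∈ l} = ⊤
      · exact ⟨l, by omega, Or.inl htop⟩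
      obtain ⟨x, hx⟩ : ∃ x, x ∉ Subgroup.closure {x | x ∈ l} := by
        by_contra hall
        push Not at hall
        exact htop ((Subgroup.eq_top_iff' _).mpr hall)
      refine ⟨x :: l, by simp [hl], Or.inr ?_⟩
      set H := Subgroup.closure {y | y ∈ l}
      set K := Subgroup.closure {y | y ∈ x :: l}
      have hHK : H ≤ K := Subgroup.closure_mono fun y hy => List.mem_cons_of_mem x hy
      have hne : H ≠ K := fun e => hx (e ▸ Subgroup.subset_closure List.mem_cons_self)
      have hdH := Subgroup.card_subgroup_dvd_card H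
      have hdK := Subgroup.card_subgroup_dvd_card K
      rw [hN] at hdH hdK
      obtain ⟨i, -, hi⟩ := (Nat.dvd_prime_pow hp).mp hdH
      obtain ⟨j, -, hj⟩ := (Nat.dvd_prime_pow hp).mp hdK
      rw [hi] at h
      rw [hj]
      have hki : k ≤ i := (Nat.pow_dvd_pow_iff_le_right hp.one_lt).mp h
      have hij : i < j := by
        by_contra hji
        refine hne (Subgroup.eq_of_le_of_card_ge hHK ?_)
        rw [hi, hj]
        exact Nat.pow_le_pow_right hp.pos (by omega)
      exact Nat.pow_dvd_pow p (by omega)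
  obtain ⟨l, hl, h | h⟩ := key d
  · exact ⟨l, hl, h⟩
  · refine ⟨l, hl, Subgroup.eq_top_of_card_eq _ ?_⟩
    exact Nat.dvd_antisymm (Subgroup.card_subgroup_dvd_card _) (hN ▸ h)

variable {G : Type u} [Group G] [Finite G] {X : Type v} [MulAction G X] [FaithfulSMul G X] [Finite X]

theorem omega_le_of_fix (a : X) : ∀ (l : List X) (H : Subgroup G), H ≤ MulAction.stabilizer G a →
    (∀ x ∈ l, x ≠ a) → (∀ h ∈ H, (∀ x ∈ l, h • x = x) → h = 1) →
    (Nat.card H).primeFactorsList.length ≤ l.length * Nat.log 2 (Nat.card X - 1) := by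
  classical
  intro l
  induction l with
  | nil =>
    intro H _ _ hfix
    have : H = ⊥ := (Subgroup.eq_bot_iff_forall _).mpr fun h hh => hfix h hh (by simp)
    rw [this, Subgroup.card_bot, Nat.primeFactorsList_one]; simp
  | cons x l ih =>
    intro H hH hne hfix
    have h1 := ih (H ⊓ MulAction.stabilizer G x) (inf_le_left.trans hH)
      (fun y hy => hne y (List.mem_cons_of_mem _ hy))
      (fun h hh hl => hfix h (Subgroup.mem_inf.mp hh).1 fun y hy => by
        rcases List.mem_cons.mp hy with rfl | hy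
        exacts [(Subgroup.mem_inf.mp hh).2, hl y hy])
    have hst : Nat.card (MulAction.stabilizer H x) = Nat.card (H ⊓ MulAction.stabilizer G x : Subgroup G) :=
      Nat.card_congr
        { toFun := fun h => ⟨(h : H), Subgroup.mem_inf.mpr ⟨(h : H).2, h.2⟩⟩
          invFun := fun h => ⟨⟨h, (Subgroup.mem_inf.mp h.2).1⟩, (Subgroup.mem_inf.mp h.2).2⟩
          left_inv := fun _ => rfl
          right_inv := fun _ => rfl }
    have hc : Nat.card H = Nat.card (MulAction.orbit H x) *
        Nat.card (H ⊓ MulAction.stabilizer G x : Subgroup G) := by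
      rw [Subgroup.card_eq_card_quotient_mul_card_subgroup (MulAction.stabilizer H x), hst,
        Nat.card_congr (MulAction.orbitEquivQuotientStabilizer H x)]
    have : Nonempty (MulAction.orbit H x) := ⟨⟨x, MulAction.mem_orbit_self x⟩⟩
    have ho : 0 < Nat.card (MulAction.orbit H x) := Nat.card_pos
    have hox : Nat.card (MulAction.orbit H x) ≤ Nat.card X - 1 := by
      have hsub : MulAction.orbit H x ⊆ {y | y ≠ a} := by
        rintro y ⟨h, rfl⟩ (e : (h : G) • x = a)
        refine hne x List.mem_cons_self ?_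
        rw [← inv_smul_smul (h : G) x, e, inv_smul_eq_iff]
        exact (MulAction.mem_stabilizer_iff.mp (hH h.2)).symm
      calc Nat.card (MulAction.orbit H x) ≤ Nat.card {y : X // y ≠ a} := Nat.card_mono (Set.toFinite _) hsub
        _ = Nat.card X - 1 := by
          have := Nat.card_congr (Equiv.optionSubtypeNe a)
          rw [Finite.card_option] at this
          omega
    have hlog : (Nat.card (MulAction.orbit H x)).primeFactorsList.length ≤ Nat.log 2 (Nat.card X - 1) := by
      refine Nat.le_log_of_pow_le one_lt_two (le_trans ?_ hox)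
      conv_rhs => rw [← Nat.prod_primeFactorsList ho.ne']
      exact List.pow_card_le_prod _ 2 fun p hp => (Nat.prime_of_mem_primeFactorsList hp).two_le
    rw [hc, (Nat.perm_primeFactorsList_mul ho.ne' (Nat.card_pos (α := (H ⊓ MulAction.stabilizer G x : Subgroup G))).ne').length_eq,
      List.length_append, List.length_cons, Nat.succ_mul]
    omega

/-- A transitive normal subgroup reduces the length to that of a point stabiliser. -/
theorem cl_glue {N : Subgroup G} [N.Normal] (a : X) (htr : ∀ x y : X, ∃ m ∈ N, m • x = y) :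
    cl G + cl (N ⊓ MulAction.stabilizer G a : Subgroup G) ≤ cl N + cl (MulAction.stabilizer G a) := by
  let f : MulAction.stabilizer G a →* G ⧸ N :=
    (QuotientGroup.mk' N).comp (MulAction.stabilizer G a).subtype
  have hf : Function.Surjective f := fun q => by
    obtain ⟨g, rfl⟩ := QuotientGroup.mk'_surjective N q
    obtain ⟨m, hm, hma⟩ := htr (g • a) a
    refine ⟨⟨m * g, by rw [MulAction.mem_stabilizer_iff, mul_smul, hma]⟩, ?_⟩
    show QuotientGroup.mk' N (m * g) = _
    rw [map_mul, show QuotientGroup.mk' N m = 1 from (QuotientGroup.eq_one_iff m).mpr hm, one_mul]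
  have h1 := cl_le_ker_add (QuotientGroup.mk' N) (QuotientGroup.mk'_surjective N)
  rw [cl_subgroup_congr (QuotientGroup.ker_mk' N)] at h1
  have h2 := cl_ker_add_le f hf
  have hker : f.ker = N.subgroupOf (MulAction.stabilizer G a) := by
    rw [← MonoidHom.comap_ker, QuotientGroup.ker_mk']; rfl
  rw [cl_subgroup_congr hker, cl_congr (Subgroup.equivMapOfInjective _ _
      (MulAction.stabilizer G a).subtype_injective),
    cl_subgroup_congr (Subgroup.subgroupOf_map_subtype N _)] at h2
  omega

theorem bound_affine (hn : 2 ≤ Nat.card X) {N : Subgroup G} [N.Normal] (hN : N ≠ ⊥)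
    (hmin : ∀ M : Subgroup G, M.Normal → M ≤ N → M = ⊥ ∨ M = N) (hab : IsMulCommutative N)
    (htr : ∀ x y : X, ∃ m ∈ N, m • x = y) : 3 * cl G + 4 ≤ 4 * Nat.card X := by
  obtain ⟨hreg, p, hp, hexp⟩ := abelian_regular hN hmin hab htr
  have := Fact.mk hp
  obtain ⟨a⟩ : Nonempty X := (Nat.card_pos_iff.mp (by omega)).1
  have hcardN : Nat.card N = Nat.card X := Nat.card_congr (Equiv.ofBijective (fun m : N => (m : G) • a)
    ⟨fun m m' h => Subtype.ext (inv_mul_eq_one.mp (hreg _ (N.mul_mem (N.inv_mem m.2) m'.2) a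
      (by rw [mul_smul, inv_smul_eq_iff]; exact h.symm))), fun y => by
      obtain ⟨m, hm, rfl⟩ := htr a y; exact ⟨⟨m, hm⟩, rfl⟩⟩)
  have hpN : IsPGroup p N := fun x => ⟨1, Subtype.ext (by simpa using hexp x x.2)⟩
  obtain ⟨d, hd⟩ := IsPGroup.iff_card.mp hpN
  have hd1 : 1 ≤ d := by
    rcases Nat.eq_zero_or_pos d with rfl | h
    · rw [pow_zero] at hd; omega
    · exact h
  obtain ⟨l, hl, hgen⟩ := exists_generators hp hd
  classical
  let l' : List X := (l.filter fun m => m ≠ 1).map fun m : N => (m : G) • a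
  have hfix : ∀ h ∈ MulAction.stabilizer G a, (∀ x ∈ l', h • x = x) → h = 1 := by
    intro h ha hx
    have hc : ∀ m : N, h * m = m * h := by
      intro m
      have hm : m ∈ Subgroup.closure {x | x ∈ l} := hgen ▸ Subgroup.mem_top m
      induction hm using Subgroup.closure_induction with
      | mem m hm =>
        by_cases hm1 : m = 1
        · simp [hm1]
        have h1 := hx _ (List.mem_map.mpr ⟨m, List.mem_filter.mpr ⟨hm, by simpa using hm1⟩, rfl⟩)
        have hinN : (m : G)⁻¹ * (h * m * h⁻¹) ∈ N :=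
          N.mul_mem (N.inv_mem m.2) ((inferInstance : N.Normal).conj_mem _ m.2 h)
        have h2 : ((m : G)⁻¹ * (h * m * h⁻¹)) • a = a := by
          rw [mul_smul, mul_smul, mul_smul,
            inv_smul_eq_iff.mpr (MulAction.mem_stabilizer_iff.mp ha).symm, h1, inv_smul_smul]
        have h3 := hreg _ hinN a h2
        rw [inv_mul_eq_one, eq_mul_inv_iff_mul_eq] at h3
        exact h3.symm
      | one => simp
      | mul x y _ _ hx hy =>
        rw [Subgroup.coe_mul, ← mul_assoc, hx, mul_assoc, hy, mul_assoc]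
      | inv x _ hx =>
        rw [Subgroup.coe_inv, eq_inv_mul_iff_mul_eq, ← mul_assoc, ← hx, mul_inv_cancel_right]
    exact semiregular_of_comm htr (fun m hm => hc ⟨m, hm⟩) (MulAction.mem_stabilizer_iff.mp ha)
  have hne : ∀ x ∈ l', x ≠ a := by
    intro x hx e
    obtain ⟨m, hm, rfl⟩ := List.mem_map.mp hx
    have := (List.mem_filter.mp hm).2
    simp only [decide_eq_true_eq] at this
    exact this (Subtype.ext (hreg m m.2 a e))
  have hS := omega_le_of_fix a l' (MulAction.stabilizer G a) le_rfl hne hfix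
  have hS' := cl_le_omega (G := MulAction.stabilizer G a)
  have hN' := cl_le_omega (G := N)
  rw [hd, hp.primeFactorsList_pow, List.length_replicate] at hN'
  have hglue := cl_glue a htr
  have hlen : l'.length ≤ d := by
    simp only [l', List.length_map]
    exact (List.length_filter_le _ l).trans hl
  have harith := arith_affine hp.two_le hd1
  rw [← hd, hcardN] at harith
  have : l'.length * Nat.log 2 (Nat.card X - 1) ≤ d * Nat.log 2 (Nat.card X - 1) :=
    Nat.mul_le_mul_right _ hlen
  omega

/-! ### The nonabelian case -/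

section Nonabelian

variable {N : Subgroup G} [hNn : N.Normal] (D : Data N) (a : X)

open Classical in
/-- The number of nontrivial coordinates. -/
noncomputable def supp (x : G) : ℕ := (D.s.filter fun T => Data.proj T x ≠ 1).card

omit hNn in
theorem supp_eq (x : G) : supp D x = D.count (fun y => y ≠ 1) x := by
  unfold supp Data.count
  congr 2

theorem supp_conj {x : G} (hx : x ∈ N) (g : G) : supp D (g * x * g⁻¹) = supp D x := by
  rw [supp_eq, supp_eq, D.count_conj (fun g y => not_congr conj_eq_one_iff) hx g]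

open Classical in
/-- Least number of nontrivial coordinates of an element of `N` moving `a` to the given point. -/
noncomputable def dist (β : X) : ℕ := sInf {c | ∃ x ∈ N, x • a = β ∧ supp D x = c}

variable (htr : ∀ x y : X, ∃ m ∈ N, m • x = y)

include htr in
theorem dist_spec (β : X) :
    ∃ x ∈ N, x • a = β ∧ supp D x = dist D a β := by
  obtain ⟨m, hm, hma⟩ := htr a β
  exact Nat.sInf_mem (s := {c | ∃ x ∈ N, x • a = β ∧ supp D x = c}) ⟨_, m, hm, hma, rfl⟩

theorem dist_le {x : G} (hx : x ∈ N) : dist D a (x • a) ≤ supp D x :=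
  Nat.sInf_le ⟨x, hx, rfl, rfl⟩

include htr in
theorem dist_smul {s : G} (hs : s • a = a) (β : X) : dist D a (s • β) = dist D a β := by
  have key : ∀ (t : G), t • a = a → ∀ γ, dist D a (t • γ) ≤ dist D a γ := by
    intro t ht γ
    obtain ⟨x, hx, hxa, hc⟩ := dist_spec D a htr γ
    have hmem : t * x * t⁻¹ ∈ N := hNn.conj_mem x hx t
    have e : (t * x * t⁻¹) • a = t • γ := by
      rw [mul_smul, mul_smul, inv_smul_eq_iff.mpr ht.symm, hxa]
    have := dist_le D a hmem
    rwa [e, supp_conj D hx t, hc] at this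
  refine le_antisymm (key s hs β) ?_
  have := key s⁻¹ (by rw [inv_smul_eq_iff, hs]) (s • β)
  rwa [inv_smul_smul] at this

include htr in
theorem dist_le_norb (β : X) :
    dist D a β ≤ norb (MulAction.stabilizer G a) (SubMulAction.ofStabilizer G a) := by
  classical
  set m := dist D a β with hm
  have hex : ∀ j, 1 ≤ j → j ≤ m → ∃ γ : SubMulAction.ofStabilizer G a, dist D a (γ : X) = j := by
    intro j hj1 hjm
    obtain ⟨x, hx, hxa, hc⟩ := dist_spec D a htr β
    rw [← hm] at hc
    obtain ⟨Tj, hTj, hTjc⟩ := Finset.exists_subset_card_eq (s := D.s.filter fun T => Data.proj T x ≠ 1)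
      (n := j) (by rw [show (D.s.filter fun T => Data.proj T x ≠ 1).card = m by rw [← hc]; rfl]; exact hjm)
    obtain ⟨y, hy, hy1, hy2⟩ := exists_coord D (fun T => Data.proj T x) Tj
      (fun T hT => (Finset.mem_filter.mp (hTj hT)).1) (fun T _ => Data.proj_mem T x)
    obtain ⟨z, hz, hz1, hz2⟩ := exists_coord D (fun T => Data.proj T x) (D.s \ Tj)
      Finset.sdiff_subset (fun T _ => Data.proj_mem T x)
    have hxzy : x = z * y := proj_ext D hx (N.mul_mem hz hy) fun T hT => by
      rw [D.proj_mul hT hz hy]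
      by_cases h : T ∈ Tj
      · rw [hz2 T hT (by simp [h]), hy1 T h, one_mul]
      · rw [hz1 T (Finset.mem_sdiff.mpr ⟨hT, h⟩), hy2 T hT h, mul_one]
    have hcy : supp D y ≤ j := by
      rw [← hTjc]
      refine Finset.card_le_card fun T hT => ?_
      rw [Finset.mem_filter] at hT
      by_contra h
      exact hT.2 (hy2 T hT.1 h)
    have hcz : supp D z + j ≤ m := by
      rw [← hc, ← hTjc]
      show _ ≤ (D.s.filter fun T => Data.proj T x ≠ 1).card
      have hd : (D.s.filter fun T => Data.proj T x ≠ 1) \ Tj ∪ Tj = D.s.filter fun T => Data.proj T x ≠ 1 :=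
        Finset.sdiff_union_of_subset hTj
      rw [← hd, Finset.card_union_of_disjoint Finset.sdiff_disjoint]
      refine Nat.add_le_add_right (Finset.card_le_card fun T hT => ?_) _
      rw [Finset.mem_filter] at hT
      by_cases h : T ∈ Tj
      · exact absurd (hz2 T hT.1 (by simp [h])) hT.2
      · rw [hz1 T (Finset.mem_sdiff.mpr ⟨hT.1, h⟩)] at hT
        exact Finset.mem_sdiff.mpr ⟨Finset.mem_filter.mpr hT, h⟩
    have hdy : dist D a (y • a) = j := by
      refine le_antisymm ((dist_le D a hy).trans hcy) ?_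
      by_contra hlt
      push Not at hlt
      obtain ⟨y', hy', hy'a, hc'⟩ := dist_spec D a htr (y • a)
      have h1 := dist_le D a (N.mul_mem hz hy')
      rw [mul_smul, hy'a, ← mul_smul, ← hxzy, hxa, ← hm] at h1
      have h2 : supp D (z * y') ≤
          supp D z + supp D y' := by
        refine le_trans (Finset.card_le_card fun T hT => ?_) (Finset.card_union_le _ _)
        rw [Finset.mem_filter] at hT
        rw [D.proj_mul hT.1 hz hy'] at hT
        rw [Finset.mem_union, Finset.mem_filter, Finset.mem_filter]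
        by_contra h
        push Not at h
        exact hT.2 (by rw [h.1 hT.1, h.2 hT.1, one_mul])
      omega
    refine ⟨⟨y • a, fun e => ?_⟩, hdy⟩
    have h0 : dist D a a = 0 := Nat.le_zero.mp (le_trans
      (by simpa using dist_le D a N.one_mem) (by
        refine le_of_eq ?_
        unfold supp
        rw [Finset.card_eq_zero, Finset.filter_eq_empty_iff]
        intro T hT
        rw [D.proj_one hT]; simp))
    rw [e, h0] at hdy
    omega
  let q : MulAction.orbitRel.Quotient (MulAction.stabilizer G a) (SubMulAction.ofStabilizer G a) → ℕ :=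
    Quotient.lift (fun γ => dist D a (γ : X)) fun γ γ' h => by
      obtain ⟨s, rfl⟩ := h
      exact dist_smul D a htr (MulAction.mem_stabilizer_iff.mp s.2) (γ' : X)
  let g : Fin m → MulAction.orbitRel.Quotient (MulAction.stabilizer G a) (SubMulAction.ofStabilizer G a) :=
    fun j => Quotient.mk'' (hex (j.val + 1) (by omega) j.isLt).choose
  have hg : ∀ j, q (g j) = j.val + 1 := fun j => (hex (j.val + 1) (by omega) j.isLt).choose_spec
  have := Nat.card_le_card_of_injective g fun i j h => by
    have := congrArg q h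
    rw [hg, hg] at this
    exact Fin.ext (by omega)
  rwa [Nat.card_fin] at this

include D a htr in
theorem bound_nonabelian (hprim : MulAction.IsPreprimitive G X) (hn : 2 ≤ Nat.card X)
    (ih : ∀ m < Nat.card X, Bound.{v} m) : 3 * cl G + 4 ≤ 4 * Nat.card X := by
  classical
  have hglue := cl_glue a htr
  have hS := bound_stabilizer (G := G) a ih
  have hN := cl_N_le D
  set A : Subgroup G := N ⊓ MulAction.stabilizer G a with hA
  have hAN : A ≤ N := inf_le_left
  have : Nontrivial X := Finite.one_lt_card_iff_nontrivial.mp (by omega)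
  suffices h : ∃ β : X, 3 * D.s.card ≤ 3 * cl A + 4 * dist D a β by
    obtain ⟨β, hβ⟩ := h
    have := dist_le_norb D a htr β
    omega
  rcases D.key a htr (exists_ne a) with hfree | ⟨hfix, -⟩
  swap
  · refine ⟨a, ?_⟩
    have := card_le_cl D D.s A le_rfl hAN fun T hT => by
      obtain ⟨x, hxT, hx1, hxa⟩ := hfix T hT
      refine ⟨x, Subgroup.mem_inf.mpr ⟨D.le T hT hxT, MulAction.mem_stabilizer_iff.mpr hxa⟩, ?_,
        fun T' hT' hne => D.proj_of_other hT' hT (Ne.symm hne) hxT⟩
      rw [D.proj_of_mem hT hxT]; exact hx1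
    omega
  -- no factor meets the stabiliser
  have hfin : {S : Finset (Subgroup G) | S ⊆ D.s ∧ ∀ x ∈ A, x ∈ U D S → x = 1}.Finite :=
    (Finset.finite_toSet D.s.powerset).subset fun S h => Finset.mem_powerset.mpr h.1
  obtain ⟨S, ⟨hSs, hSA⟩, hmax⟩ := hfin.exists_maximal
    ⟨∅, Finset.empty_subset _, fun x _ hx =>
      eq_one_of_proj D hx.1 fun T hT => hx.2 T hT (Finset.notMem_empty T)⟩
  set R := D.s \ S with hR
  have hRs : R ⊆ D.s := Finset.sdiff_subset
  have hcard : S.card + R.card = D.s.card := by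
    rw [hR, Finset.card_sdiff_of_subset hSs]
    have := Finset.card_le_card hSs
    omega
  have hAr : ∀ r ∈ R, ∃ h ∈ A, h ∈ U D (insert r S) ∧ h ≠ 1 := by
    intro r hr
    obtain ⟨hrs, hrS⟩ := Finset.mem_sdiff.mp hr
    by_contra hno
    push Not at hno
    exact hrS (hmax (y := insert r S) ⟨Finset.insert_subset hrs hSs, hno⟩ (Finset.subset_insert r S)
      (Finset.mem_insert_self r S))
  have honR : ∀ h ∈ A, (∀ r ∈ R, Data.proj r h = 1) → h = 1 := fun h hh hall =>
    hSA h hh ⟨hAN hh, fun T hT hTS => hall T (Finset.mem_sdiff.mpr ⟨hT, hTS⟩)⟩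
  have hU1 : ∀ r ∈ R, ∀ h, h ∈ U D (insert r S) → ∀ r' ∈ R, r' ≠ r → Data.proj r' h = 1 := by
    intro r hr h hh r' hr' hne
    obtain ⟨hr's, hr'S⟩ := Finset.mem_sdiff.mp hr'
    exact hh.2 r' hr's (by simp [hne, hr'S])
  have hclA : R.card ≤ cl A := card_le_cl D R A hRs hAN fun r hr => by
    obtain ⟨h, hhA, hhU, hh1⟩ := hAr r hr
    refine ⟨h, hhA, fun e => hh1 (honR h hhA fun r' hr' => ?_), hU1 r hr h hhU⟩
    by_cases e' : r' = r
    · rwa [e']
    · exact hU1 r hr h hhU r' hr' e'
  suffices h : ∃ x ∈ N, ∀ h ∈ A, 3 * S.card ≤ 4 * supp D (x * h) by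
    obtain ⟨x, hx, hxh⟩ := h
    refine ⟨x • a, ?_⟩
    obtain ⟨y, hy, hya, hc⟩ := dist_spec D a htr (x • a)
    have := hxh (x⁻¹ * y) (Subgroup.mem_inf.mpr ⟨N.mul_mem (N.inv_mem hx) hy,
      MulAction.mem_stabilizer_iff.mpr (by rw [mul_smul, hya, inv_smul_smul])⟩)
    rw [mul_inv_cancel_left, hc] at this
    omega
  by_cases hR0 : R = ∅
  · -- regular
    have hA1 : ∀ h ∈ A, h = 1 := fun h hh => honR h hh (by simp [hR0])
    have hex : ∀ T ∈ D.s, ∃ t ∈ T, t ≠ 1 := fun T hT => D.exists_ne hT
    choose! t ht1 ht2 using hex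
    obtain ⟨x, hx, hx1, -⟩ := exists_coord D t D.s le_rfl ht1
    refine ⟨x, hx, fun h hh => ?_⟩
    rw [hA1 h hh, mul_one]
    have : supp D x = D.s.card := by
      unfold supp
      rw [Finset.filter_eq_self.mpr fun T hT => by rw [hx1 T hT]; exact ht2 T hT]
    have := Finset.card_le_card hSs
    omega
  obtain ⟨r0, hr0⟩ := Finset.nonempty_iff_ne_empty.mpr hR0
  -- all projections of the stabiliser are surjective
  have hfull : ∀ T ∈ D.s, ∀ t ∈ T, ∃ h ∈ A, Data.proj T h = t := by
    let P : Subgroup G :=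
      { carrier := {x | x ∈ N ∧ ∀ T ∈ D.s, ∃ h ∈ A, Data.proj T h = Data.proj T x}
        one_mem' := ⟨N.one_mem, fun T hT => ⟨1, A.one_mem, rfl⟩⟩
        mul_mem' := by
          rintro x y ⟨hx, hx'⟩ ⟨hy, hy'⟩
          refine ⟨N.mul_mem hx hy, fun T hT => ?_⟩
          obtain ⟨h, hh, e1⟩ := hx' T hT
          obtain ⟨k, hk, e2⟩ := hy' T hT
          exact ⟨h * k, A.mul_mem hh hk, by rw [D.proj_mul hT (hAN hh) (hAN hk), D.proj_mul hT hx hy, e1, e2]⟩
        inv_mem' := by
          rintro x ⟨hx, hx'⟩
          refine ⟨N.inv_mem hx, fun T hT => ?_⟩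
          obtain ⟨h, hh, e1⟩ := hx' T hT
          exact ⟨h⁻¹, A.inv_mem hh, by rw [D.proj_inv hT (hAN hh), D.proj_inv hT hx, e1]⟩ }
    have hAP : A ≤ P := fun h hh => ⟨hAN hh, fun T _ => ⟨h, hh, rfl⟩⟩
    have hconj : ∀ s ∈ MulAction.stabilizer G a, ∀ x ∈ P, s * x * s⁻¹ ∈ P := by
      rintro s hs x ⟨hx, hx'⟩
      refine ⟨hNn.conj_mem x hx s, fun T hT => ?_⟩
      obtain ⟨h, hh, e⟩ := hx' _ (D.conj T hT s⁻¹)
      have hTT : (T.map (MulAut.conj s⁻¹).toMonoidHom).map (MulAut.conj s).toMonoidHom = T := by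
        ext y; simp [mem_map_conj, mul_assoc]
      refine ⟨s * h * s⁻¹, Subgroup.mem_inf.mpr ⟨hNn.conj_mem h (hAN hh) s,
        Subgroup.mul_mem _ (Subgroup.mul_mem _ hs (Subgroup.mem_inf.mp hh).2) (Subgroup.inv_mem _ hs)⟩, ?_⟩
      have h1 := D.proj_conj (D.conj T hT s⁻¹) (hAN hh) s
      have h2 := D.proj_conj (D.conj T hT s⁻¹) hx s
      rw [hTT] at h1 h2
      rw [h1, h2, e]
    rcases (MulAction.IsPreprimitive.isCoatom_stabilizer_of_isPreprimitive (G := G) a).le_iff.mp
        (le_sup_left : MulAction.stabilizer G a ≤ MulAction.stabilizer G a ⊔ P) with htop | heq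
    · intro T hT t ht
      have hnorm : MulAction.stabilizer G a ≤ Subgroup.normalizer (P : Set G) := fun s hs =>
        Subgroup.mem_normalizer_iff.mpr fun x => ⟨hconj s hs x, fun hx => by
          have := hconj s⁻¹ ((MulAction.stabilizer G a).inv_mem hs) _ hx
          simpa [mul_assoc] using this⟩
      have hmem : t ∈ ((MulAction.stabilizer G a ⊔ P : Subgroup G) : Set G) := by
        rw [htop]; trivial
      rw [Subgroup.coe_mul_of_left_le_normalizer_right _ _ hnorm] at hmem
      obtain ⟨s, hs, x, hx, rfl⟩ := hmem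
      have hsN : s ∈ N := by
        have := N.mul_mem (D.le T hT ht) (N.inv_mem hx.1)
        simpa using this
      obtain ⟨h, hh, e⟩ := hx.2 T hT
      refine ⟨s * h, A.mul_mem (Subgroup.mem_inf.mpr ⟨hsN, hs⟩) hh, ?_⟩
      rw [D.proj_mul hT hsN (hAN hh), e, ← D.proj_mul hT hsN hx.1, D.proj_of_mem hT ht]
    · exfalso
      obtain ⟨h, hhA, -, hh1⟩ := hAr r0 hr0
      refine hh1 (eq_one_of_proj D (hAN hhA) fun T hT => ?_)
      have hP : P ≤ MulAction.stabilizer G a := le_sup_right.trans heq.le
      have ht : Data.proj T h ∈ P := by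
        refine ⟨D.le T hT (Data.proj_mem T h), fun T' hT' => ?_⟩
        by_cases e : T' = T
        · subst e; exact ⟨h, hhA, (D.proj_of_mem hT' (Data.proj_mem T' h)).symm⟩
        · exact ⟨1, A.one_mem, by
            rw [D.proj_one hT', D.proj_of_other hT' hT (Ne.symm e) (Data.proj_mem T h)]⟩
      exact hfree T hT _ (Data.proj_mem T h) a (MulAction.mem_stabilizer_iff.mp (hP ht))
  -- a section of the projection onto each factor outside `S`
  have hsec : ∀ r ∈ R, ∀ t ∈ r, ∃ h ∈ A, h ∈ U D (insert r S) ∧ Data.proj r h = t := by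
    intro r hr
    have hrs := hRs hr
    let K : Subgroup r :=
      { carrier := {t | ∃ h ∈ A, h ∈ U D (insert r S) ∧ Data.proj r h = (t : G)}
        one_mem' := ⟨1, A.one_mem, Subgroup.one_mem _, D.proj_one hrs⟩
        mul_mem' := by
          rintro s t ⟨h, hh, hu, e⟩ ⟨k, hk, hv, e'⟩
          exact ⟨h * k, A.mul_mem hh hk, Subgroup.mul_mem _ hu hv,
            by rw [D.proj_mul hrs (hAN hh) (hAN hk), e, e']; rfl⟩
        inv_mem' := by
          rintro s ⟨h, hh, hu, e⟩
          exact ⟨h⁻¹, A.inv_mem hh, Subgroup.inv_mem _ hu, by rw [D.proj_inv hrs (hAN hh), e]; rfl⟩ }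
    have hK : K.Normal := ⟨by
      rintro t ⟨h, hh, hu, e⟩ g
      obtain ⟨k, hk, ek⟩ := hfull r hrs g g.2
      refine ⟨k * h * k⁻¹, A.mul_mem (A.mul_mem hk hh) (A.inv_mem hk),
        ⟨hNn.conj_mem h (hAN hh) k, fun T hT hTS => ?_⟩, ?_⟩
      · rw [D.proj_mul hT (N.mul_mem (hAN hk) (hAN hh)) (N.inv_mem (hAN hk)), D.proj_mul hT (hAN hk) (hAN hh),
          D.proj_inv hT (hAN hk), hu.2 T hT hTS, mul_one, mul_inv_cancel]
      · rw [D.proj_mul hrs (N.mul_mem (hAN hk) (hAN hh)) (N.inv_mem (hAN hk)), D.proj_mul hrs (hAN hk) (hAN hh),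
          D.proj_inv hrs (hAN hk), e, ek]
        rfl⟩
    have := D.simple r hrs
    have htop : K = ⊤ := hK.eq_bot_or_eq_top.resolve_left fun hbot => by
      obtain ⟨h, hhA, hhU, hh1⟩ := hAr r hr
      refine hh1 (honR h hhA fun r' hr' => ?_)
      by_cases e : r' = r
      · subst e
        have : (⟨Data.proj r' h, Data.proj_mem r' h⟩ : r') ∈ K := ⟨h, hhA, hhU, rfl⟩
        rw [hbot, Subgroup.mem_bot] at this
        exact congrArg Subtype.val this
      · exact hU1 r hr h hhU r' hr' e
    intro t ht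
    exact (htop ▸ Subgroup.mem_top (⟨t, ht⟩ : r) : (⟨t, ht⟩ : r) ∈ K)
  choose! sec hsecA hsecU hsecP using hsec
  have hsec_uniq : ∀ r ∈ R, ∀ h ∈ A, h ∈ U D (insert r S) → h = sec r (Data.proj r h) := by
    intro r hr h hhA hhU
    refine inv_mul_eq_one.mp (honR _ (A.mul_mem (A.inv_mem hhA) (hsecA r hr _ (Data.proj_mem r h)))
      fun r' hr' => ?_)
    rw [D.proj_mul (hRs hr') (N.inv_mem (hAN hhA)) (hAN (hsecA r hr _ (Data.proj_mem r h))),
      D.proj_inv (hRs hr') (hAN hhA)]
    by_cases e : r' = r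
    · subst e; rw [hsecP r' hr _ (Data.proj_mem r' h), inv_mul_cancel]
    · rw [hU1 r hr h hhU r' hr' e, hU1 r hr _ (hsecU r hr _ (Data.proj_mem r h)) r' hr' e, inv_one, one_mul]
  -- each factor depends on exactly one of those outside `S`
  have hdecomp : ∀ T ∈ D.s, ∀ r ∈ R,
      (∀ r' ∈ R, r' ≠ r → ∀ h ∈ A, h ∈ U D (insert r' S) → Data.proj T h = 1) →
      ∀ h ∈ A, Data.proj T h = Data.proj T (sec r (Data.proj r h)) := by
    intro T hT r hr hoth
    have key : ∀ (m : ℕ) (h : G), h ∈ A → (R.filter fun r' => Data.proj r' h ≠ 1).card = m →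
        Data.proj r h = 1 → Data.proj T h = 1 := by
      intro m
      induction m using Nat.strong_induction_on with
      | _ m ihm =>
        intro h hh hm hr1
        rcases Finset.eq_empty_or_nonempty (R.filter fun r' => Data.proj r' h ≠ 1) with he | ⟨r1, hr1'⟩
        · rw [honR h hh fun r' hr' => by
            by_contra hne
            exact Finset.notMem_empty r' (he ▸ Finset.mem_filter.mpr ⟨hr', hne⟩)]
          exact D.proj_one hT
        obtain ⟨hr1R, hr1n⟩ := Finset.mem_filter.mp hr1'
        have hb := hsecA r1 hr1R _ (Data.proj_mem r1 h)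
        have hbU := hsecU r1 hr1R _ (Data.proj_mem r1 h)
        set b := sec r1 (Data.proj r1 h) with hbdef
        have hne : r ≠ r1 := fun e => hr1n (e ▸ hr1)
        have hk : h * b⁻¹ ∈ A := A.mul_mem hh (A.inv_mem hb)
        have hpk : ∀ r' ∈ R, Data.proj r' (h * b⁻¹) = if r' = r1 then 1 else Data.proj r' h := by
          intro r' hr'
          rw [D.proj_mul (hRs hr') (hAN hh) (N.inv_mem (hAN hb)), D.proj_inv (hRs hr') (hAN hb)]
          split_ifs with e
          · subst e; rw [hbdef, hsecP r' hr1R _ (Data.proj_mem r' h), mul_inv_cancel]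
          · rw [hU1 r1 hr1R b hbU r' hr' e, inv_one, mul_one]
        have hlt : (R.filter fun r' => Data.proj r' (h * b⁻¹) ≠ 1).card < m := by
          rw [← hm]
          refine Finset.card_lt_card ⟨fun r' hr' => ?_, fun hsub => ?_⟩
          · rw [Finset.mem_filter] at hr' ⊢
            refine ⟨hr'.1, ?_⟩
            have := hr'.2
            rw [hpk r' hr'.1] at this
            split_ifs at this with e
            · exact absurd rfl this
            · exact this
          · have := (Finset.mem_filter.mp (hsub hr1')).2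
            rw [hpk r1 hr1R, if_pos rfl] at this
            exact this rfl
        have := ihm _ hlt _ hk rfl (by rw [hpk r hr, if_neg hne]; exact hr1)
        rw [D.proj_mul hT (hAN hh) (N.inv_mem (hAN hb)), D.proj_inv hT (hAN hb),
          hoth r1 hr1R (Ne.symm hne) b hb hbU, inv_one, mul_one] at this
        exact this
    intro h hh
    have hb := hsecA r hr _ (Data.proj_mem r h)
    have := key _ (h * (sec r (Data.proj r h))⁻¹) (A.mul_mem hh (A.inv_mem hb)) rfl (by
      rw [D.proj_mul (hRs hr) (hAN hh) (N.inv_mem (hAN hb)), D.proj_inv (hRs hr) (hAN hb),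
        hsecP r hr _ (Data.proj_mem r h), mul_inv_cancel])
    rwa [D.proj_mul hT (hAN hh) (N.inv_mem (hAN hb)), D.proj_inv hT (hAN hb), mul_inv_eq_one] at this
  have hown : ∀ T ∈ D.s, ∃ r ∈ R, (∀ r' ∈ R, r' ≠ r → ∀ h ∈ A, h ∈ U D (insert r' S) → Data.proj T h = 1) := by
    intro T hT
    by_cases hex : ∃ r ∈ R, ∃ h ∈ A, h ∈ U D (insert r S) ∧ Data.proj T h ≠ 1
    swap
    · push Not at hex
      exact ⟨r0, hr0, fun r' hr' _ => hex r' hr'⟩
    obtain ⟨r, hr, h0, hh0, hu0, hne0⟩ := hex
    refine ⟨r, hr, fun r' hr' hne h hh hu => D.center T hT _ (Data.proj_mem T h) fun t ht => ?_⟩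
    -- the image of the section over `r` is normal in `T`, hence everything
    let K : Subgroup T :=
      { carrier := {s | ∃ k ∈ A, k ∈ U D (insert r S) ∧ Data.proj T k = (s : G)}
        one_mem' := ⟨1, A.one_mem, Subgroup.one_mem _, D.proj_one hT⟩
        mul_mem' := by
          rintro s s' ⟨k, hk, hku, e⟩ ⟨k', hk', hku', e'⟩
          exact ⟨k * k', A.mul_mem hk hk', Subgroup.mul_mem _ hku hku',
            by rw [D.proj_mul hT (hAN hk) (hAN hk'), e, e']; rfl⟩
        inv_mem' := by
          rintro s ⟨k, hk, hku, e⟩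
          exact ⟨k⁻¹, A.inv_mem hk, Subgroup.inv_mem _ hku, by rw [D.proj_inv hT (hAN hk), e]; rfl⟩ }
    have hK : K.Normal := ⟨by
      rintro s ⟨k, hk, hku, e⟩ g
      obtain ⟨l, hl, el⟩ := hfull T hT g g.2
      refine ⟨l * k * l⁻¹, A.mul_mem (A.mul_mem hl hk) (A.inv_mem hl),
        ⟨hNn.conj_mem k (hAN hk) l, fun T' hT' hTS => ?_⟩, ?_⟩
      · rw [D.proj_mul hT' (N.mul_mem (hAN hl) (hAN hk)) (N.inv_mem (hAN hl)), D.proj_mul hT' (hAN hl) (hAN hk),
          D.proj_inv hT' (hAN hl), hku.2 T' hT' hTS, mul_one, mul_inv_cancel]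
      · rw [D.proj_mul hT (N.mul_mem (hAN hl) (hAN hk)) (N.inv_mem (hAN hl)), D.proj_mul hT (hAN hl) (hAN hk),
          D.proj_inv hT (hAN hl), e, el]
        rfl⟩
    have := D.simple T hT
    have htop : K = ⊤ := hK.eq_bot_or_eq_top.resolve_left fun hbot => hne0 (by
      have : (⟨Data.proj T h0, Data.proj_mem T h0⟩ : T) ∈ K := ⟨h0, hh0, hu0, rfl⟩
      rw [hbot, Subgroup.mem_bot] at this
      exact congrArg Subtype.val this)
    obtain ⟨k, hk, hku, ek⟩ : (⟨t, ht⟩ : T) ∈ K := htop ▸ Subgroup.mem_top _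
    have hcomm : h * k = k * h := proj_ext D (N.mul_mem (hAN hh) (hAN hk)) (N.mul_mem (hAN hk) (hAN hh)) fun T' hT' => by
      have : h * k * (k * h)⁻¹ = 1 := honR _ (A.mul_mem (A.mul_mem hh hk) (A.inv_mem (A.mul_mem hk hh))) fun r'' hr'' => by
        rw [D.proj_mul (hRs hr'') (N.mul_mem (hAN hh) (hAN hk)) (N.inv_mem (N.mul_mem (hAN hk) (hAN hh))),
          D.proj_inv (hRs hr'') (N.mul_mem (hAN hk) (hAN hh)), D.proj_mul (hRs hr'') (hAN hh) (hAN hk),
          D.proj_mul (hRs hr'') (hAN hk) (hAN hh)]
        by_cases e : r'' = r'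
        · rw [hU1 r hr k hku r'' hr'' (e ▸ hne)]; simp
        · rw [hU1 r' hr' h hu r'' hr'' e]; simp
      rw [mul_inv_eq_one.mp this]
    have := congrArg (Data.proj T) hcomm
    rwa [D.proj_mul hT (hAN hh) (hAN hk), D.proj_mul hT (hAN hk) (hAN hh), ek] at this
  choose! own hownR hownP using hown
  have hthru : ∀ T ∈ D.s, ∀ h ∈ A, Data.proj T h = Data.proj T (sec (own T) (Data.proj (own T) h)) :=
    fun T hT => hdecomp T hT (own T) (hownR T hT) (hownP T hT)
  have hinj : ∀ T ∈ D.s, ∀ s ∈ own T, Data.proj T (sec (own T) s) = 1 → s = 1 := by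
    intro T hT s hs h1
    have hr := hownR T hT
    by_contra hs1
    let K : Subgroup (own T) :=
      { carrier := {s | Data.proj T (sec (own T) (s : G)) = 1}
        one_mem' := by
          show Data.proj T (sec (own T) ((1 : own T) : G)) = 1
          have := hsec_uniq _ hr 1 A.one_mem (Subgroup.one_mem _)
          rw [D.proj_one (hRs hr)] at this
          rw [Subgroup.coe_one, ← this, D.proj_one hT]
        mul_mem' := by
          intro s s' (h : Data.proj T _ = 1) (h' : Data.proj T _ = 1)
          show Data.proj T _ = 1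
          have e1 := hsecA _ hr s s.2
          have e2 := hsecA _ hr s' s'.2
          have := hsec_uniq _ hr _ (A.mul_mem e1 e2) (Subgroup.mul_mem _ (hsecU _ hr s s.2) (hsecU _ hr s' s'.2))
          rw [D.proj_mul (hRs hr) (hAN e1) (hAN e2), hsecP _ hr s s.2, hsecP _ hr s' s'.2] at this
          rw [Subgroup.coe_mul, ← this, D.proj_mul hT (hAN e1) (hAN e2), h, h', one_mul]
        inv_mem' := by
          intro s (h : Data.proj T _ = 1)
          show Data.proj T _ = 1
          have e1 := hsecA _ hr s s.2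
          have := hsec_uniq _ hr _ (A.inv_mem e1) (Subgroup.inv_mem _ (hsecU _ hr s s.2))
          rw [D.proj_inv (hRs hr) (hAN e1), hsecP _ hr s s.2] at this
          rw [Subgroup.coe_inv, ← this, D.proj_inv hT (hAN e1), h, inv_one] }
    have hK : K.Normal := ⟨fun s (h : Data.proj T _ = 1) g => by
      show Data.proj T _ = 1
      have e1 := hsecA _ hr s s.2
      have e2 := hsecA _ hr g g.2
      have := hsec_uniq _ hr _ (A.mul_mem (A.mul_mem e2 e1) (A.inv_mem e2))
        (Subgroup.mul_mem _ (Subgroup.mul_mem _ (hsecU _ hr g g.2) (hsecU _ hr s s.2))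
          (Subgroup.inv_mem _ (hsecU _ hr g g.2)))
      rw [D.proj_mul (hRs hr) (N.mul_mem (hAN e2) (hAN e1)) (N.inv_mem (hAN e2)),
        D.proj_mul (hRs hr) (hAN e2) (hAN e1), D.proj_inv (hRs hr) (hAN e2), hsecP _ hr s s.2,
        hsecP _ hr g g.2] at this
      rw [Subgroup.coe_mul, Subgroup.coe_mul, Subgroup.coe_inv, ← this,
        D.proj_mul hT (N.mul_mem (hAN e2) (hAN e1)) (N.inv_mem (hAN e2)), D.proj_mul hT (hAN e2) (hAN e1),
        D.proj_inv hT (hAN e2), h, mul_one, mul_inv_cancel]⟩
    have := D.simple _ (hRs hr)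
    have htop : K = ⊤ := hK.eq_bot_or_eq_top.resolve_left fun hbot => hs1 (by
      have : (⟨s, hs⟩ : own T) ∈ K := h1
      rw [hbot, Subgroup.mem_bot] at this
      exact congrArg Subtype.val this)
    obtain ⟨t, htT, ht1⟩ := D.exists_ne hT
    obtain ⟨h, hh, e⟩ := hfull T hT t htT
    apply ht1
    rw [← e, hthru T hT h hh]
    exact (htop ▸ Subgroup.mem_top _ : (⟨Data.proj (own T) h, Data.proj_mem _ h⟩ : own T) ∈ K)
  -- four distinct values in each factor
  have hfour : ∀ r ∈ R, ∃ t : Fin 4 → G, (∀ i, t i ∈ r) ∧ Function.Injective t := by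
    intro r hr
    obtain ⟨f, hf, hfi⟩ := D.exists_three_orders (hRs hr)
    refine ⟨Fin.cases 1 f, fun i => Fin.cases r.one_mem (fun j => (hf j).1) i, ?_⟩
    intro i j hij
    induction i using Fin.cases with
    | zero => induction j using Fin.cases with
      | zero => rfl
      | succ j => simp at hij; exact absurd hij.symm (hf j).2
    | succ i => induction j using Fin.cases with
      | zero => simp at hij; exact absurd hij (hf i).2
      | succ j => simp at hij; rw [hfi (congrArg orderOf hij)]
  choose! tt htt htti using hfour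
  let fib : Subgroup G → Finset (Subgroup G) := fun r => D.s.filter fun T => own T = r
  let pos : Subgroup G → ℕ := fun T =>
    if h : T ∈ fib (own T) then ((fib (own T)).equivFin ⟨T, h⟩).val else 0
  have hpos : ∀ T ∈ D.s, pos T < (fib (own T)).card := fun T hT => by
    have h : T ∈ fib (own T) := Finset.mem_filter.mpr ⟨hT, rfl⟩
    simp only [pos, dif_pos h, Fin.is_lt]
  have hposinj : ∀ T ∈ D.s, ∀ T' ∈ D.s, own T = own T' → pos T = pos T' → T = T' := by
    intro T hT T' hT' e ep
    have h : T ∈ fib (own T) := Finset.mem_filter.mpr ⟨hT, rfl⟩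
    have h' : T' ∈ fib (own T) := Finset.mem_filter.mpr ⟨hT', e.symm⟩
    simp only [pos, dif_pos h] at ep
    rw [← e] at ep
    rw [dif_pos h'] at ep
    exact congrArg Subtype.val ((fib (own T)).equivFin.injective (Fin.ext ep))
  let c : Subgroup G → Fin 4 := fun T => ⟨pos T % 4, Nat.mod_lt _ (by norm_num)⟩
  obtain ⟨x, hx, hx1, -⟩ := exists_coord D (fun T => Data.proj T (sec (own T) (tt (own T) (c T))))
    D.s le_rfl (fun T _ => Data.proj_mem T _)
  refine ⟨x, hx, fun h hh => ?_⟩
  have hz : ∀ T ∈ D.s, Data.proj T (x * h) = 1 → tt (own T) (c T) = (Data.proj (own T) h)⁻¹ := by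
    intro T hT e
    have hr := hownR T hT
    have e1 := hsecA _ hr _ (htt _ hr (c T))
    have hk : sec (own T) (tt (own T) (c T)) * h ∈ A := A.mul_mem e1 hh
    have h2 := hthru T hT _ hk
    rw [D.proj_mul hT hx (hAN hh), hx1 T hT, ← D.proj_mul hT (hAN e1) (hAN hh), h2] at e
    have h3 := hinj T hT _ (Data.proj_mem _ _) e
    rw [D.proj_mul (hRs hr) (hAN e1) (hAN hh), hsecP _ hr _ (htt _ hr (c T))] at h3
    exact eq_inv_of_mul_eq_one_left h3
  set Z := D.s.filter fun T => Data.proj T (x * h) = 1 with hZ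
  have hcount : supp D (x * h) + Z.card = D.s.card := by
    rw [hZ, add_comm]
    exact Finset.card_filter_add_card_filter_not _
  have hfibsum : D.s.card = ∑ r ∈ R, (fib r).card :=
    Finset.card_eq_sum_card_fiberwise fun T hT => hownR T hT
  have hZsum : Z.card = ∑ r ∈ R, (Z.filter fun T => own T = r).card :=
    Finset.card_eq_sum_card_fiberwise fun T hT => hownR T (Finset.mem_filter.mp hT).1
  have hle : ∀ r ∈ R, 4 * (Z.filter fun T => own T = r).card ≤ (fib r).card + 3 := by
    intro r hr
    have : (Z.filter fun T => own T = r).card ≤ ((fib r).card + 3) / 4 := by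
      rw [← Finset.card_range (((fib r).card + 3) / 4)]
      refine Finset.card_le_card_of_injOn (fun T => pos T / 4) (fun T hT => ?_) ?_
      · simp only [Finset.coe_filter, Set.mem_setOf_eq, hZ, Finset.mem_filter] at hT
        have := hpos T hT.1.1
        rw [hT.2] at this
        simp only [Finset.coe_range, Set.mem_Iio]
        omega
      · intro T hT T' hT' e
        simp only [Finset.coe_filter, Set.mem_setOf_eq, hZ, Finset.mem_filter] at hT hT'
        have e1 := hz T hT.1.1 hT.1.2
        have e2 := hz T' hT'.1.1 hT'.1.2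
        rw [hT.2] at e1
        rw [hT'.2] at e2
        have ec := congrArg Fin.val (htti r hr (e1.trans e2.symm))
        simp only [c] at ec
        simp only at e
        exact hposinj T hT.1.1 T' hT'.1.1 (hT.2.trans hT'.2.symm) (by omega)
    omega
  have h4 : 4 * Z.card ≤ D.s.card + 3 * R.card := by
    rw [hZsum, hfibsum, Finset.mul_sum]
    refine (Finset.sum_le_sum hle).trans ?_
    rw [Finset.sum_add_distrib, Finset.sum_const, smul_eq_mul]
    omega
  omega

end Nonabelian

/-- All permutation groups satisfy the bound. -/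
theorem bound_all : ∀ n, Bound.{v} n := by
  intro n
  induction n using Nat.strong_induction_on with
  | _ n ih =>
    intro X _ G hX
    subst hX
    rcases Nat.lt_or_ge (norb G X) 2 with horb | horb
    swap
    · exact bound_of_intransitive ih horb
    rcases Nat.eq_zero_or_pos (norb G X) with h0 | h1
    · have : IsEmpty X := ⟨fun x => by
        have : Nonempty X := ⟨x⟩
        have := norb_pos (G := G) (X := X)
        omega⟩
      have := cl_le_omega (G := G)
      rw [Nat.card_unique, Nat.primeFactorsList_one, List.length_nil] at this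
      omega
    have hne : Nonempty X := by
      by_contra hn
      rw [not_nonempty_iff] at hn
      simp [norb] at h1
    have h1' : norb G X = 1 := by omega
    have htr : MulAction.IsPretransitive G X := ⟨fun x y => by
      have := (Nat.card_eq_one_iff_unique.mp h1').1
      obtain ⟨g, hg⟩ := Quotient.exact (Subsingleton.elim
        (Quotient.mk (MulAction.orbitRel G X) y) (Quotient.mk (MulAction.orbitRel G X) x))
      exact ⟨g, hg⟩⟩
    rw [h1']
    rcases Nat.lt_or_ge (Nat.card X) 2 with hn | hn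
    · have : Subsingleton X := Finite.card_le_one_iff_subsingleton.mp (by omega)
      have := cl_le_omega (G := G)
      rw [Nat.card_unique, Nat.primeFactorsList_one, List.length_nil] at this
      have : 0 < Nat.card X := Nat.card_pos
      omega
    by_cases hprim : MulAction.IsPreprimitive G X
    swap
    · obtain ⟨B, hB, hB1, hB2⟩ : ∃ B : Set X, MulAction.IsBlock G B ∧ ¬ B.Subsingleton ∧ B ≠ Set.univ := by
        by_contra hno
        push Not at hno
        exact hprim { isTrivialBlock_of_isBlock := fun {B} hB => by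
                        by_cases hs : B.Subsingleton
                        · exact Or.inl hs
                        · exact Or.inr (hno B hB (Set.not_subsingleton_iff.mp hs)) }
      exact bound_of_imprimitive ih B hB hB1 hB2
    obtain ⟨N, hN, hN0, hmin, htrN⟩ := exists_minimal hprim hn
    by_cases hab : IsMulCommutative N
    · exact bound_affine hn hN0 hmin hab htrN
    obtain ⟨D⟩ := exists_data N hN0 hmin hab
    obtain ⟨a⟩ := hne
    exact bound_nonabelian D a htrN hprim hn ih

end CfsgLib.CompLength
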